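import Mathlib

/-!
# Identification of a direct limit of cyclic modules (no injectivity of transition maps needed)

Variant of `Groth.Agent.H82.DLF.nonempty_equiv` with the kernel condition only in the limit.
-/

set_option autoImplicit false

universe u

namespace Groth.Agent.H71.SOP.DL

variable {S : Type u} [CommRing S]
variable (G : ℕ → Type u) [∀ n, AddCommGroup (G n)] [∀ n, Module S (G n)]
variable (f : ∀ n m, n ≤ m → G n →ₗ[S] G m)
variable [DirectedSystem G fun i j h => f i j h]
variable {F : Type u} [AddCommGroup F] [Module S F]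
variable (cl : ∀ n, S →ₗ[S] G n) (D : ℕ → ℕ → S) (ψ : ∀ n, S →ₗ[S] F)

section

variable (hcl : ∀ n, Function.Surjective (cl n))
  (hf : ∀ n m (h : n ≤ m) (p : S), f n m h (cl n p) = cl m (D n m * p))
  (hker₁ : ∀ n p, cl n p = 0 → ψ n p = 0)
  (hker₂ : ∀ n p, ψ n p = 0 → ∃ m, ∃ _ : n ≤ m, cl m (D n m * p) = 0)
  (hψ : ∀ n m (_ : n ≤ m) (p : S), ψ m (D n m * p) = ψ n p)
  (hsurj : ∀ c : F, ∃ n p, ψ n p = c)

include hf hker₂ hψ in
theorem wd (n : ℕ) (p : S) (n' : ℕ) (p' : S) (h : ψ n p = ψ n' p') :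
    Module.DirectLimit.of S ℕ G f n (cl n p) = Module.DirectLimit.of S ℕ G f n' (cl n' p') := by
  have h1 : n ≤ max n n' := le_max_left _ _
  have h2 : n' ≤ max n n' := le_max_right _ _
  rw [← Module.DirectLimit.of_f (hij := h1), ← Module.DirectLimit.of_f (hij := h2), hf, hf]
  have h3 : ψ (max n n') (D n (max n n') * p - D n' (max n n') * p') = 0 := by
    rw [map_sub, hψ _ _ h1, hψ _ _ h2, h, sub_self]
  obtain ⟨m, hm, h4⟩ := hker₂ _ _ h3
  rw [← sub_eq_zero, ← map_sub, ← map_sub, ← Module.DirectLimit.of_f (hij := hm), hf, h4, map_zero]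

include hcl hf hker₁ hker₂ hψ hsurj in
theorem nonempty_equiv :
    Nonempty (F ≃ₗ[S] Module.DirectLimit G f) := by
  classical
  choose N P hNP using hsurj
  let Θ : F → Module.DirectLimit G f := fun c => Module.DirectLimit.of S ℕ G f (N c) (cl (N c) (P c))
  have L1 : ∀ n p, Θ (ψ n p) = Module.DirectLimit.of S ℕ G f n (cl n p) := by
    intro n p
    exact wd G f cl D ψ hf hker₂ hψ _ _ _ _ (hNP (ψ n p))
  have hadd : ∀ c c' : F, Θ (c + c') = Θ c + Θ c' := by
    intro c c'
    have h1 : N c ≤ max (N c) (N c') := le_max_left _ _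
    have h2 : N c' ≤ max (N c) (N c') := le_max_right _ _
    have e1 : c = ψ (max (N c) (N c')) (D (N c) (max (N c) (N c')) * P c) := by
      rw [hψ _ _ h1, hNP]
    have e2 : c' = ψ (max (N c) (N c')) (D (N c') (max (N c) (N c')) * P c') := by
      rw [hψ _ _ h2, hNP]
    have e3 : c + c' = ψ (max (N c) (N c'))
        (D (N c) (max (N c) (N c')) * P c + D (N c') (max (N c) (N c')) * P c') := by
      rw [map_add, ← e1, ← e2]
    rw [e3, L1, map_add, map_add, ← L1, ← L1, ← e1, ← e2]
  have hsmul : ∀ (a : S) (c : F), Θ (a • c) = a • Θ c := by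
    intro a c
    have e1 : a • c = ψ (N c) (a * P c) := by
      rw [← smul_eq_mul, map_smul, hNP]
    rw [e1, L1, ← smul_eq_mul, map_smul, map_smul]
  let Θl : F →ₗ[S] Module.DirectLimit G f :=
    { toFun := Θ
      map_add' := hadd
      map_smul' := fun a c => by rw [hsmul, RingHom.id_apply] }
  have hinj : Function.Injective Θl := by
    rw [injective_iff_map_eq_zero]
    intro c hc
    have hc' : Θ c = 0 := hc
    have e1 : c = ψ (N c) (P c) := (hNP c).symm
    rw [e1, L1] at hc'
    obtain ⟨m, hm, h0⟩ := Module.DirectLimit.of.zero_exact hc'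
    rw [hf] at h0
    have := hker₁ _ _ h0
    rw [hψ _ _ hm] at this
    rw [e1, this]
  have hsur : Function.Surjective Θl := by
    intro z
    obtain ⟨n, y, hy⟩ := Module.DirectLimit.exists_of z
    obtain ⟨p, rfl⟩ := hcl n y
    refine ⟨ψ n p, ?_⟩
    show Θ (ψ n p) = z
    rw [L1, hy]
  exact ⟨LinearEquiv.ofBijective Θl ⟨hinj, hsur⟩⟩

end

end Groth.Agent.H71.SOP.DL
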