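import Mathlib

/-!
# The module `R_t / Σ R_{t/x_i}` as a union of the `R/(x₁ⁿ,…,x_dⁿ)`

Pure algebra: the maps `ψ n : R → R_t / W`, `p ↦ p / tⁿ`, their kernels in the limit,
compatibility and joint surjectivity.
-/

set_option autoImplicit false

universe u

namespace Groth.Agent.H71.SOP.Q

open scoped BigOperators

variable {R : Type u} [CommRing R] {d : ℕ} (x : Fin d → R)

/-- the localization `R_t`, `t = ∏ x_i` -/
abbrev Rt : Type u := Localization.Away (∏ i, x i)

/-- the inverse of `t` -/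
noncomputable abbrev inv : Rt x := IsLocalization.Away.invSelf (∏ i, x i)

/-- the submodule spanned by the `x_i^n / t^n` -/
def W : Submodule R (Rt x) :=
  Submodule.span R {y : Rt x | ∃ (i : Fin d) (n : ℕ),
    y = algebraMap R (Rt x) (x i ^ n) * IsLocalization.Away.invSelf (∏ i, x i) ^ n}

/-- the ideal `(x₁ⁿ, …, x_dⁿ)` -/
def J (n : ℕ) : Ideal R := Ideal.span (Set.range fun i => x i ^ n)

lemma t_mul_inv : algebraMap R (Rt x) (∏ i, x i) * inv x = 1 :=
  IsLocalization.Away.mul_invSelf _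

/-- `p ↦ p / tⁿ` -/
noncomputable def φ (n : ℕ) : R →ₗ[R] Rt x :=
  (LinearMap.mulRight R (inv x ^ n)) ∘ₗ (Algebra.linearMap R (Rt x))

lemma φ_apply (n : ℕ) (p : R) : φ x n p = algebraMap R (Rt x) p * inv x ^ n := rfl

lemma φ_trans (n j : ℕ) (p : R) : φ x (n + j) ((∏ i, x i) ^ j * p) = φ x n p := by
  rw [φ_apply, φ_apply, map_mul, map_pow, pow_add]
  have h := t_mul_inv x
  calc algebraMap R (Rt x) (∏ i, x i) ^ j * algebraMap R (Rt x) p * (inv x ^ n * inv x ^ j)
      = (algebraMap R (Rt x) (∏ i, x i) * inv x) ^ j * (algebraMap R (Rt x) p * inv x ^ n) := by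
        rw [mul_pow]; ring
    _ = algebraMap R (Rt x) p * inv x ^ n := by rw [h, one_pow, one_mul]

lemma t_pow_mul_mem {k : ℕ} (j : ℕ) {q : R} (hq : q ∈ J x k) :
    (∏ i, x i) ^ j * q ∈ J x (k + j) := by
  unfold J at hq ⊢
  induction hq using Submodule.span_induction with
  | mem y hy =>
    obtain ⟨i, rfl⟩ := hy
    obtain ⟨c, hc⟩ : x i ∣ ∏ i, x i := Finset.dvd_prod_of_mem x (Finset.mem_univ i)
    have : (∏ i, x i) ^ j * x i ^ k = c ^ j * x i ^ (k + j) := by
      rw [hc, mul_pow, pow_add]; ring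
    rw [this]
    exact Ideal.mul_mem_left _ _ (Ideal.subset_span ⟨i, rfl⟩)
  | zero => rw [mul_zero]; exact Submodule.zero_mem _
  | add a b _ _ ha hb => rw [mul_add]; exact Submodule.add_mem _ ha hb
  | smul a b _ hb =>
    rw [smul_eq_mul, mul_left_comm]
    exact Ideal.mul_mem_left _ _ hb

lemma φ_mem_W_of_mem {n : ℕ} {p : R} (hp : p ∈ J x n) : φ x n p ∈ W x := by
  unfold J at hp
  induction hp using Submodule.span_induction with
  | mem y hy =>
    obtain ⟨i, rfl⟩ := hy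
    exact Submodule.subset_span ⟨i, n, rfl⟩
  | zero => rw [map_zero]; exact Submodule.zero_mem _
  | add a b _ _ ha hb => rw [map_add]; exact Submodule.add_mem _ ha hb
  | smul a b _ hb => rw [map_smul]; exact Submodule.smul_mem _ _ hb

lemma exists_of_mem_W {y : Rt x} (hy : y ∈ W x) : ∃ m q, q ∈ J x m ∧ y = φ x m q := by
  unfold W at hy
  induction hy using Submodule.span_induction with
  | mem y hy =>
    obtain ⟨i, n, rfl⟩ := hy
    exact ⟨n, x i ^ n, Ideal.subset_span ⟨i, rfl⟩, rfl⟩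
  | zero => exact ⟨0, 0, Submodule.zero_mem _, (map_zero _).symm⟩
  | add a b _ _ ha hb =>
    obtain ⟨m₁, q₁, hq₁, rfl⟩ := ha
    obtain ⟨m₂, q₂, hq₂, rfl⟩ := hb
    refine ⟨m₁ + m₂, (∏ i, x i) ^ m₂ * q₁ + (∏ i, x i) ^ m₁ * q₂,
      Submodule.add_mem _ (t_pow_mul_mem x m₂ hq₁) ?_, ?_⟩
    · have := t_pow_mul_mem x m₁ hq₂
      rwa [add_comm m₂ m₁] at this
    · rw [map_add, φ_trans]
      have : φ x (m₁ + m₂) ((∏ i, x i) ^ m₁ * q₂) = φ x m₂ q₂ := by
        rw [add_comm m₁ m₂]; exact φ_trans x m₂ m₁ q₂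
      rw [this]
  | smul a b _ hb =>
    obtain ⟨m, q, hq, rfl⟩ := hb
    exact ⟨m, a * q, Ideal.mul_mem_left _ _ hq, by rw [← smul_eq_mul, map_smul]⟩

/-- the key kernel statement -/
lemma exists_pow_mul_mem_of_φ_mem_W {n : ℕ} {p : R} (h : φ x n p ∈ W x) :
    ∃ m, ∃ _ : n ≤ m, (∏ i, x i) ^ (m - n) * p ∈ J x m := by
  obtain ⟨m, q, hq, hpq⟩ := exists_of_mem_W x h
  -- `p / t^n = q / t^m`
  have h1 : algebraMap R (Rt x) ((∏ i, x i) ^ m * p) = algebraMap R (Rt x) ((∏ i, x i) ^ n * q) := by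
    have e1 : algebraMap R (Rt x) ((∏ i, x i) ^ m * p) =
        algebraMap R (Rt x) (∏ i, x i) ^ (n + m) * φ x n p := by
      rw [φ_apply, map_mul, map_pow, pow_add]
      have h := t_mul_inv x
      calc algebraMap R (Rt x) (∏ i, x i) ^ m * algebraMap R (Rt x) p
          = (algebraMap R (Rt x) (∏ i, x i) * inv x) ^ n *
              (algebraMap R (Rt x) (∏ i, x i) ^ m * algebraMap R (Rt x) p) := by
            rw [h, one_pow, one_mul]
        _ = _ := by rw [mul_pow]; ring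
    have e2 : algebraMap R (Rt x) ((∏ i, x i) ^ n * q) =
        algebraMap R (Rt x) (∏ i, x i) ^ (n + m) * φ x m q := by
      rw [φ_apply, map_mul, map_pow, pow_add]
      have h := t_mul_inv x
      calc algebraMap R (Rt x) (∏ i, x i) ^ n * algebraMap R (Rt x) q
          = (algebraMap R (Rt x) (∏ i, x i) * inv x) ^ m *
              (algebraMap R (Rt x) (∏ i, x i) ^ n * algebraMap R (Rt x) q) := by
            rw [h, one_pow, one_mul]
        _ = _ := by rw [mul_pow]; ring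
    rw [e1, e2, hpq]
  obtain ⟨⟨c, M, rfl⟩, hc⟩ := (IsLocalization.eq_iff_exists (Submonoid.powers (∏ i, x i)) (Rt x)).1 h1
  refine ⟨m + M + n, by omega, ?_⟩
  have h2 : (∏ i, x i) ^ (m + M + n - n) * p = (∏ i, x i) ^ (M + n) * q := by
    have : m + M + n - n = M + m := by omega
    rw [this, pow_add, pow_add, mul_assoc, mul_assoc]
    exact hc
  rw [h2]
  have := t_pow_mul_mem x (M + n) hq
  rwa [show m + (M + n) = m + M + n by ring] at this

/-- every element of `R_t` is of the form `p / tⁿ` -/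
lemma exists_φ_eq (y : Rt x) : ∃ n p, φ x n p = y := by
  obtain ⟨n, a, ha⟩ := IsLocalization.Away.surj (∏ i, x i) y
  refine ⟨n, a, ?_⟩
  rw [φ_apply, ← ha, mul_assoc, ← mul_pow, t_mul_inv, one_pow, mul_one]

end Groth.Agent.H71.SOP.Q
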