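import Mathlib
import Groth.Agent.H71.SOP.DirLim
import Groth.Agent.H71.SOP.Quot
import Groth.Agent.H82.KoszTopNat
import Groth.Agent.H82.KCShift
import Groth.Agent.H82.CechInj
import Groth.Agent.S11665

/-!
# `R_t / Σ R_{t/x_i}` is an injective hull of the residue field (Gorenstein local ring, s.o.p.)
-/

set_option autoImplicit false
set_option linter.unusedSectionVars false
set_option linter.unusedVariables false
set_option linter.style.haveILetI false
set_option backward.isDefEq.respectTransparency false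

universe u

open CategoryTheory CochainComplex HomologicalComplex Limits

namespace Groth.Agent.H71.SOP

open Groth.Agent.H82 Groth.Agent.H71.SOP.Q

/-- transport of injective hulls along a linear equivalence of the target -/
theorem isInjectiveHull_of_equiv {R : Type u} [CommRing R] {M E E' : Type u}
    [AddCommGroup M] [Module R M] [AddCommGroup E] [Module R E] [AddCommGroup E'] [Module R E']
    (f : M →ₗ[R] E) (hf : InjHull.IsInjectiveHull f) (e : E ≃ₗ[R] E') :
    InjHull.IsInjectiveHull (e.toLinearMap ∘ₗ f) := by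
  refine ⟨⟨?_, ?_⟩, ?_⟩
  · exact e.injective.comp hf.injective
  · intro N hN
    have hN' : N.comap e.toLinearMap ≠ ⊥ := by
      intro h0
      apply hN
      rw [eq_bot_iff]
      intro y hy
      have : e.symm y ∈ N.comap e.toLinearMap := by
        show e (e.symm y) ∈ N
        rwa [LinearEquiv.apply_symm_apply]
      rw [h0, Submodule.mem_bot] at this
      rw [Submodule.mem_bot, ← e.apply_symm_apply y, this, map_zero]
    have h1 := hf.essential _ hN'
    obtain ⟨y, hy, hy0⟩ := Submodule.exists_mem_ne_zero_of_ne_bot h1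
    obtain ⟨hyN, ⟨m, rfl⟩⟩ := hy
    intro h0
    have : e (f m) ∈ N ⊓ LinearMap.range (e.toLinearMap ∘ₗ f) := ⟨hyN, ⟨m, rfl⟩⟩
    rw [h0, Submodule.mem_bot] at this
    exact hy0 (e.injective (this.trans (map_zero e).symm))
  · haveI := hf.isInjective
    exact Module.Baer.injective (Module.Baer.of_equiv e (Module.Baer.of_injective hf.isInjective))

variable {R : Type u} [CommRing R] {d : ℕ} (x : Fin d → R)

lemma ofList_eq_J (n : ℕ) : Ideal.ofList ((List.ofFn x).map (· ^ n)) = J x n := by
  unfold J Ideal.ofList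
  congr 1
  ext r
  simp only [List.mem_map, List.mem_ofFn', Set.mem_range, Set.mem_setOf_eq]
  constructor
  · rintro ⟨a, ⟨i, rfl⟩, rfl⟩
    exact ⟨i, rfl⟩
  · rintro ⟨i, rfl⟩
    exact ⟨x i, ⟨i, rfl⟩, rfl⟩

/-- the maps `ψ n : R → R_t / W` -/
noncomputable def ψ (n : ℕ) : R →ₗ[R] (Rt x ⧸ W x) := (W x).mkQ ∘ₗ φ x n

/-- `R_t / W` is the direct limit of top Koszul cohomology -/
theorem nonempty_equiv_dirLim (j : ℤ) (hj : j = 0) :
    Nonempty ((Rt x ⧸ W x) ≃ₗ[R] Module.DirectLimit
      (fun n : ℕ => ((CohIII.koszulCx (ModuleCat.of R R) ((List.ofFn x).map (· ^ n))).homology j : Type u))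
      (fun n m h => (homologyMap (CohIII.koszulTrans (ModuleCat.of R R) n m h (List.ofFn x)) j).hom)) := by
  subst hj
  haveI : DirectedSystem
      (fun n : ℕ => ((CohIII.koszulCx (ModuleCat.of R R) ((List.ofFn x).map (· ^ n))).homology 0 : Type u))
      (fun n m h => (homologyMap (CohIII.koszulTrans (ModuleCat.of R R) n m h (List.ofFn x)) 0).hom) := by
    constructor
    · intro n y
      show (homologyMap (CohIII.koszulTrans (ModuleCat.of R R) n n le_rfl (List.ofFn x)) 0).hom y = y
      rw [KC.trans_refl, homologyMap_id]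
      rfl
    · intro k j i hij hjk y
      show (homologyMap (CohIII.koszulTrans (ModuleCat.of R R) j k hjk (List.ofFn x)) 0).hom
        ((homologyMap (CohIII.koszulTrans (ModuleCat.of R R) i j hij (List.ofFn x)) 0).hom y) =
        (homologyMap (CohIII.koszulTrans (ModuleCat.of R R) i k (hij.trans hjk) (List.ofFn x)) 0).hom y
      rw [← KC.trans_comp (ModuleCat.of R R) i j k hij hjk (List.ofFn x), homologyMap_comp]
      rfl
  have hprod : (List.ofFn x).prod = ∏ i, x i := List.prod_ofFn
  refine DL.nonempty_equiv _ _ (KTN.cl (List.ofFn x)) (fun n m => (List.ofFn x).prod ^ (m - n))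
    (ψ x) (KTN.cl_surjective (List.ofFn x)) (fun n m h p => KTN.cl_trans (List.ofFn x) n m h p)
    ?_ ?_ ?_ ?_
  · intro n p hp
    rw [KTN.cl_eq_zero_iff, ofList_eq_J] at hp
    show (W x).mkQ (φ x n p) = 0
    rw [Submodule.mkQ_apply, Submodule.Quotient.mk_eq_zero]
    exact φ_mem_W_of_mem x hp
  · intro n p hp
    have hp' : φ x n p ∈ W x := by
      have : (W x).mkQ (φ x n p) = 0 := hp
      rwa [Submodule.mkQ_apply, Submodule.Quotient.mk_eq_zero] at this
    obtain ⟨m, hm, hmem⟩ := exists_pow_mul_mem_of_φ_mem_W x hp'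
    refine ⟨m, hm, ?_⟩
    rw [KTN.cl_eq_zero_iff, ofList_eq_J, hprod]
    exact hmem
  · intro n m hnm p
    show (W x).mkQ (φ x m ((List.ofFn x).prod ^ (m - n) * p)) = (W x).mkQ (φ x n p)
    rw [hprod]
    have := φ_trans x n (m - n) p
    rw [Nat.add_sub_cancel' hnm] at this
    rw [this]
  · intro c
    obtain ⟨y, rfl⟩ := Submodule.mkQ_surjective (W x) c
    obtain ⟨n, p, rfl⟩ := exists_φ_eq x y
    exact ⟨n, p, rfl⟩

/-- **Main theorem**: for a Gorenstein local ring of dimension `d` and a system of parameters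
`x₁, …, x_d`, the module `R_t / Σ R_{t/x_i}` is an injective hull of the residue field. -/
theorem main (R : Type u) [CommRing R] [LocCoh.IsGorensteinLocalRing R] (d : ℕ)
    (hd : ringKrullDim R = d) (x : Fin d → R)
    (hx : (Ideal.span (Set.range x)).radical = IsLocalRing.maximalIdeal R) :
    ∃ f : IsLocalRing.ResidueField R →ₗ[R] (Rt x ⧸ W x), InjHull.IsInjectiveHull f := by
  obtain ⟨g, hg⟩ := Groth.Agent.S11665.result R d hd
  obtain ⟨e1⟩ := nonempty_equiv_dirLim x (((d : ℕ) : ℤ) - ((List.ofFn x).length : ℤ))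
    (by rw [List.length_ofFn]; omega)
  have e1' : (Rt x ⧸ W x) ≃ₗ[R] CohIII.koszulHLim (List.ofFn x) (ModuleCat.of R R) d := e1
  obtain ⟨e2⟩ := KC.nonempty_koszulHLim_equiv_extCechH (List.ofFn x) (ModuleCat.of R R) d
  obtain ⟨e3⟩ := Cech.nonempty_cechH_iso_localCohomology (List.ofFn x) (ModuleCat.of R R) d
  have hset : {y | y ∈ List.ofFn x} = Set.range x := by
    ext y
    simp only [List.mem_ofFn', Set.mem_range, Set.mem_setOf_eq]
  have hrad : (Ideal.span {y | y ∈ List.ofFn x}).radical =
      (IsLocalRing.maximalIdeal R).radical := by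
    rw [hset, hx, (IsLocalRing.maximalIdeal.isMaximal R).isPrime.radical]
  let e4 := (localCohomology.isoOfSameRadical hrad d).app (ModuleCat.of R R)
  let E : LocCoh.H (IsLocalRing.maximalIdeal R) d R ≃ₗ[R] (Rt x ⧸ W x) :=
    (e4.symm ≪≫ e3.symm).toLinearEquiv ≪≫ₗ e2.symm ≪≫ₗ e1'.symm
  exact ⟨E.toLinearMap ∘ₗ g, isInjectiveHull_of_equiv g hg E⟩

end Groth.Agent.H71.SOP
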